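import Groth.Agent.CohenLib.GeomRed
import Mathlib.RingTheory.Smooth.Basic
import Mathlib.RingTheory.Ideal.Cotangent
import Mathlib.RingTheory.LocalRing.ResidueField.Basic

/-!
Derivations dual to parameters at a point with geometrically reduced residue field.
-/

set_option autoImplicit false
set_option maxHeartbeats 1000000
set_option synthInstance.maxHeartbeats 200000

noncomputable section

universe u

open TensorProduct IsLocalRing

namespace NeronSmoothLib

/-- Parameters of a local algebra with dual derivations. -/
theorem exists_dual (R L K : Type u) [CommRing R] [IsLocalRing R] (π : R) (hπ : maximalIdeal R = Ideal.span {π})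
    [CommRing L] [IsLocalRing L] [IsNoetherianRing L] [Algebra R L] [Algebra.FormallySmooth R L]
    (hπL : algebraMap R L π ∈ maximalIdeal L) [Field K] [Algebra (ResidueField R) K]
    [Algebra.IsGeometricallyReduced (ResidueField R) K] (ρ : L →+* K) (hρ : RingHom.ker ρ = maximalIdeal L)
    (hρR : ∀ r, ρ (algebraMap R L r) = algebraMap (ResidueField R) K (residue R r)) :
    ∃ (c : ℕ) (g : Fin c → L) (δ : Fin c → Derivation R L L),
      maximalIdeal L = Ideal.span (insert (algebraMap R L π) (Set.range g)) ∧
      ∀ i k, δ i (g k) - (if i = k then 1 else 0) ∈ maximalIdeal L := by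
  classical
  let N : Ideal L := maximalIdeal L ^ 2 ⊔ Ideal.span {algebraMap R L π}
  have hN : N ≤ maximalIdeal L := sup_le (Ideal.pow_le_self two_ne_zero) ((Ideal.span_singleton_le_iff_mem _).2 hπL)
  let T := L ⧸ N
  haveI : Nontrivial T := Ideal.Quotient.nontrivial_iff.2
    fun h => (maximalIdeal.isMaximal L).ne_top (eq_top_iff.2 (h ▸ hN))
  haveI : IsLocalRing T := IsLocalRing.of_surjective' (Ideal.Quotient.mk N) Ideal.Quotient.mk_surjective
  have hmT : (maximalIdeal L).map (Ideal.Quotient.mk N) = maximalIdeal T :=
    IsLocalRing.map_maximalIdeal_of_surjective _ Ideal.Quotient.mk_surjective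
  have hsq : maximalIdeal T ^ 2 = ⊥ := by
    rw [← hmT, ← Ideal.map_pow, Ideal.map_eq_bot_iff_le_ker, Ideal.mk_ker]
    exact le_sup_left
  let κT : ResidueField R →+* T := Ideal.Quotient.lift (maximalIdeal R) ((Ideal.Quotient.mk N).comp (algebraMap R L))
    fun r hr => by
      rw [hπ, Ideal.mem_span_singleton] at hr
      obtain ⟨b, rfl⟩ := hr
      show Ideal.Quotient.mk N (algebraMap R L (π * b)) = 0
      rw [Ideal.Quotient.eq_zero_iff_mem, map_mul]
      exact Ideal.mul_mem_right _ _ (Ideal.mem_sup_right (Ideal.mem_span_singleton_self _))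
  letI : Algebra (ResidueField R) T := κT.toAlgebra
  let k := ResidueField T
  let ρT : T →+* K := Ideal.Quotient.lift N ρ fun x hx => by
    rw [← RingHom.mem_ker, hρ]; exact hN hx
  have hρk : ∀ a ∈ maximalIdeal T, ρT a = 0 := fun a ha => by
    obtain ⟨b, hb, rfl⟩ := (Ideal.mem_map_iff_of_surjective _ Ideal.Quotient.mk_surjective).1 (hmT.ge ha)
    show ρ b = 0
    rw [← RingHom.mem_ker, hρ]; exact hb
  let ρk : k →+* K := Ideal.Quotient.lift (maximalIdeal T) ρT hρk
  let ρk' : k →ₐ[ResidueField R] K := { ρk with
    commutes' := fun c => by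
      obtain ⟨r, rfl⟩ := IsLocalRing.residue_surjective c
      exact hρR r }
  haveI : Algebra.IsGeometricallyReduced (ResidueField R) k :=
    Algebra.IsGeometricallyReduced.of_injective ρk' ρk'.toRingHom.injective
  haveI : Algebra.FormallySmooth (ResidueField R) k := CohenLib.formallySmooth_of_isGeometricallyReduced _ _
  let s : k →ₐ[ResidueField R] T :=
    Algebra.FormallySmooth.lift (maximalIdeal T) ⟨2, hsq⟩ (AlgHom.id (ResidueField R) k)
  have hs : ∀ x, residue T (s x) = x := fun x =>
    Algebra.FormallySmooth.mk_lift (maximalIdeal T) ⟨2, hsq⟩ (AlgHom.id (ResidueField R) k) x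
  let dT : T → T := fun u => u - s (residue T u)
  have hdm : ∀ u, dT u ∈ maximalIdeal T := fun u => by
    rw [← IsLocalRing.residue_eq_zero_iff, map_sub, hs, sub_self]
  have hkill : ∀ u v, u ∈ maximalIdeal T → v ∈ maximalIdeal T → u * v = 0 := fun u v hu hv => by
    have h := Ideal.mul_mem_mul hu hv
    rw [← pow_two, hsq] at h
    exact h
  let dlin : L →ₗ[R] maximalIdeal T :=
    { toFun := fun a => ⟨dT (Ideal.Quotient.mk N a), hdm _⟩
      map_add' := fun a b => Subtype.ext (by
        show dT _ = dT _ + dT _
        simp only [dT, map_add]; ring)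
      map_smul' := fun r a => Subtype.ext (by
        show dT (Ideal.Quotient.mk N (r • a)) = r • dT (Ideal.Quotient.mk N a)
        have e : s (residue T (Ideal.Quotient.mk N (algebraMap R L r))) = Ideal.Quotient.mk N (algebraMap R L r) :=
          s.commutes (residue R r)
        rw [show r • a = algebraMap R L r * a from Algebra.smul_def r a, map_mul,
          show r • dT (Ideal.Quotient.mk N a) = Ideal.Quotient.mk N (algebraMap R L r) * dT (Ideal.Quotient.mk N a) from
            Algebra.smul_def r _]
        simp only [dT, map_mul, e]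
        ring) }
  let d : Derivation R L (maximalIdeal T) := Derivation.mk' dlin fun a b => Subtype.ext (by
    show dT (Ideal.Quotient.mk N (a * b)) = a • dT (Ideal.Quotient.mk N b) + b • dT (Ideal.Quotient.mk N a)
    have h0 := hkill _ _ (hdm (Ideal.Quotient.mk N a)) (hdm (Ideal.Quotient.mk N b))
    simp only [dT, map_mul, Algebra.smul_def, Ideal.Quotient.algebraMap_eq] at h0 ⊢
    linear_combination -h0)
  haveI : IsNoetherianRing T := isNoetherianRing_of_surjective L T (Ideal.Quotient.mk N) Ideal.Quotient.mk_surjective
  let c := Module.finrank k (CotangentSpace T)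
  let b := Module.finBasis k (CotangentSpace T)
  choose t ht using fun i => (maximalIdeal T).toCotangent_surjective (b i)
  have hg' : ∀ i, ∃ g ∈ maximalIdeal L, Ideal.Quotient.mk N g = (t i : T) := fun i =>
    (Ideal.mem_map_iff_of_surjective _ Ideal.Quotient.mk_surjective).1 (hmT.ge (t i).2)
  choose g hgm hg using hg'
  have hdg : ∀ i, d (g i) = t i := fun i => Subtype.ext (by
    show dT (Ideal.Quotient.mk N (g i)) = (t i : T)
    simp only [dT, hg, (IsLocalRing.residue_eq_zero_iff _).2 (t i).2, map_zero, sub_zero])
  let χ : Fin c → (maximalIdeal T →ₗ[T] k) := fun i =>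
    ((b.coord i).restrictScalars T) ∘ₗ (maximalIdeal T).toCotangent
  haveI : Module.Projective L Ω[L⁄R] := inferInstance
  have hlift : ∀ i, ∃ ψ : Ω[L⁄R] →ₗ[L] L, (Algebra.linearMap L k) ∘ₗ ψ =
      (((χ i).restrictScalars L).compDer d).liftKaehlerDifferential := fun i => by
    refine Module.projective_lifting_property (Algebra.linearMap L k) _ fun x => ?_
    obtain ⟨y, rfl⟩ := IsLocalRing.residue_surjective x
    obtain ⟨a, rfl⟩ := Ideal.Quotient.mk_surjective y
    exact ⟨a, rfl⟩
  choose ψ hψ using hlift
  refine ⟨c, g, fun i => (ψ i).compDer (KaehlerDifferential.D R L), ?_, fun i j => ?_⟩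
  · refine le_antisymm ?_ (Ideal.span_le.2 ?_)
    · let J := Ideal.span (insert (algebraMap R L π) (Set.range g))
      refine Submodule.le_of_le_smul_of_le_jacobson_bot (IsNoetherian.noetherian _)
        (maximalIdeal_le_jacobson ⊥) fun x hx => ?_
      let x' : maximalIdeal T := ⟨Ideal.Quotient.mk N x, hmT.le (Ideal.mem_map_of_mem _ hx)⟩
      choose a ha using fun i => IsLocalRing.residue_surjective (b.repr ((maximalIdeal T).toCotangent x') i)
      have h1 : (maximalIdeal T).toCotangent x' = (maximalIdeal T).toCotangent (∑ i, a i • t i) := by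
        rw [map_sum]
        conv_lhs => rw [← b.sum_repr ((maximalIdeal T).toCotangent x')]
        refine Finset.sum_congr rfl fun i _ => ?_
        rw [map_smul, ht, ← ha]
        exact algebraMap_smul k (a i) (b i)
      rw [Ideal.toCotangent_eq, hsq, Ideal.mem_bot, sub_eq_zero] at h1
      choose a' ha' using fun i => Ideal.Quotient.mk_surjective (a i)
      have h2 : x - ∑ i, a' i * g i ∈ N := by
        rw [← Ideal.Quotient.eq_zero_iff_mem, map_sub, map_sum, sub_eq_zero]
        refine h1.trans ?_
        simp [ha', hg]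
      have h3 : N ≤ J ⊔ maximalIdeal L • maximalIdeal L := by
        rw [smul_eq_mul, ← pow_two]
        exact sup_le le_sup_right
          (((Ideal.span_singleton_le_iff_mem _).2 (Ideal.subset_span (Set.mem_insert _ _))).trans le_sup_left)
      rw [show x = ∑ i, a' i * g i + (x - ∑ i, a' i * g i) by ring]
      exact add_mem (Submodule.mem_sup_left (sum_mem fun i _ => J.mul_mem_left _
        (Ideal.subset_span (Set.mem_insert_of_mem _ ⟨i, rfl⟩)))) (h3 h2)
    · rintro z (rfl | ⟨i, rfl⟩)
      · exact hπL
      · exact hgm i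
  · have h1 : algebraMap L k (ψ i (KaehlerDifferential.D R L (g j))) = χ i (d (g j)) :=
      (LinearMap.congr_fun (hψ i) _).trans (Derivation.liftKaehlerDifferential_comp_D _ _)
    have h2 : χ i (t j) = if i = j then 1 else 0 := by
      show b.coord i ((maximalIdeal T).toCotangent (t j)) = _
      rw [ht, Module.Basis.coord_apply, Module.Basis.repr_self, Finsupp.single_apply]
      exact if_congr eq_comm rfl rfl
    have hkerL : ∀ z : L, algebraMap L k z = 0 → z ∈ maximalIdeal L := fun z hz => by
      by_contra hnm
      exact ((IsLocalRing.notMem_maximalIdeal.1 hnm).map (algebraMap L k)).ne_zero hz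
    refine hkerL _ ?_
    rw [map_sub, show (ψ i).compDer (KaehlerDifferential.D R L) (g j) = ψ i (KaehlerDifferential.D R L (g j)) from rfl, h1, hdg, h2]
    split_ifs <;> simp

end NeronSmoothLib
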