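import Groth.Prelude.Def_BlowUp2
import Mathlib.RingTheory.Flat.TorsionFree
import Mathlib.RingTheory.Localization.AtPrime.Basic

/-!
A model of the local ring of the affine blowup.
-/

set_option autoImplicit false
set_option maxHeartbeats 800000
set_option synthInstance.maxHeartbeats 100000
set_option linter.style.haveILetI false

noncomputable section

universe u

open IsLocalRing

namespace NeronSmoothLib

theorem bijective_of_model {R A L C0 : Type u} [CommRing R] [CommRing A] [Algebra R A] [CommRing L] [Algebra A L]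
    (p : Ideal A) (π : R) (hπ : IsRegular π) [p.IsPrime] [IsLocalization.AtPrime L p]
    (P' : Ideal (BlowUp.affineAlgebra A p (algebraMap R A π))) [P'.IsPrime] (Loc : Type u) [CommRing Loc]
    [Algebra (BlowUp.affineAlgebra A p (algebraMap R A π)) Loc] [IsLocalization.AtPrime Loc P']
    [Algebra A Loc] [IsScalarTower A (BlowUp.affineAlgebra A p (algebraMap R A π)) Loc]
    [CommRing C0] [Algebra R C0] [Module.Flat R C0] {c : ℕ} (as : Fin c → A) (hap : ∀ k, as k ∈ p)
    (hspan : ∀ x ∈ p, algebraMap A L x ∈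
      Ideal.span (insert (algebraMap A L (algebraMap R A π)) (Set.range fun k => algebraMap A L (as k))))
    (jL : L →+* C0) (X : Fin c → C0) (Θ0 : C0 →+* Loc)
    (hcomm : ∀ r, jL (algebraMap A L (algebraMap R A r)) = algebraMap R C0 r)
    (hΘA : ∀ a, Θ0 (jL (algebraMap A L a)) = algebraMap A Loc a)
    (hX : ∀ k, X k * jL (algebraMap A L (algebraMap R A π)) = jL (algebraMap A L (as k)))
    (hloc : ∀ z, IsUnit (Θ0 z) → IsUnit z)
    (hgen : ∀ z, ∃ w t : MvPolynomial (Fin c) L, IsUnit (MvPolynomial.eval₂Hom jL X t) ∧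
      z * MvPolynomial.eval₂Hom jL X t = MvPolynomial.eval₂Hom jL X w) :
    Function.Bijective Θ0 := by
  classical
  have haA' : IsUnit (algebraMap A (Localization.Away (algebraMap R A π)) (algebraMap R A π)) :=
    IsLocalization.Away.algebraMap_isUnit _
  generalize ha₀ : algebraMap R A π = a₀ at *
  let A' := BlowUp.affineAlgebra A p a₀
  let frac : ∀ x ∈ p, A' := fun x hx => ⟨IsLocalization.mk' (Localization.Away a₀) x ⟨a₀, Submonoid.mem_powers a₀⟩,
    Algebra.subset_adjoin ⟨x, hx, rfl⟩⟩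
  have hfrac : ∀ x hx, frac x hx * algebraMap A A' a₀ = algebraMap A A' x := fun x hx =>
    Subtype.ext (IsLocalization.mk'_spec (Localization.Away a₀) x ⟨a₀, Submonoid.mem_powers a₀⟩)
  have hregA' : ∀ z : A', z * algebraMap A A' a₀ = 0 → z = 0 := fun z hz => Subtype.ext (by
    have h := congrArg Subtype.val hz
    exact haA'.mul_left_eq_zero.1 h)
  have hAL : ∀ a, algebraMap A Loc a = algebraMap A' Loc (algebraMap A A' a) := fun a =>
    IsScalarTower.algebraMap_apply A A' Loc a
  have hreg : ∀ z : Loc, z * algebraMap A Loc a₀ = 0 → z = 0 := fun z hz => by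
    obtain ⟨x, t, rfl⟩ := IsLocalization.exists_mk'_eq P'.primeCompl z
    rw [hAL, ← IsLocalization.mk'_one (M := P'.primeCompl) (S := Loc),
      ← IsLocalization.mk'_mul, mul_one, IsLocalization.mk'_eq_zero_iff] at hz
    obtain ⟨w, hw⟩ := hz
    rw [IsLocalization.mk'_eq_zero_iff]
    exact ⟨w, hregA' _ (by rw [mul_assoc]; exact hw)⟩
  let jA : A →+* C0 := jL.comp (algebraMap A L)
  have hlift : ∀ x ∈ p, ∃ w : C0, w * jA a₀ = jA x := fun x hx => by
    suffices H : ∀ l ∈ Ideal.span (insert (algebraMap A L a₀) (Set.range fun k => algebraMap A L (as k))),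
        ∃ w : C0, w * jA a₀ = jL l from H _ (hspan x hx)
    intro l hl
    induction hl using Submodule.span_induction with
    | mem z hz =>
      rcases hz with rfl | ⟨k, rfl⟩
      · exact ⟨1, one_mul _⟩
      · exact ⟨X k, hX k⟩
    | zero => exact ⟨0, by simp⟩
    | add a b _ _ ha hb =>
      obtain ⟨u, hu⟩ := ha; obtain ⟨v, hv⟩ := hb
      exact ⟨u + v, by rw [add_mul, hu, hv, map_add]⟩
    | smul b a _ ha =>
      obtain ⟨u, hu⟩ := ha
      exact ⟨jL b * u, by rw [mul_assoc, hu, smul_eq_mul, map_mul]⟩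
  obtain ⟨E, instE, instEalg, hEloc⟩ : ∃ (E : Type u) (_ : CommRing E) (_ : Algebra C0 E),
      IsLocalization.Away (jA a₀) E :=
    ⟨Localization.Away (jA a₀), inferInstance, inferInstance, inferInstance⟩
  have hEu : IsUnit (algebraMap C0 E (jA a₀)) := IsLocalization.Away.algebraMap_isUnit _
  obtain ⟨Γ0, hΓ0⟩ : ∃ Γ0 : Localization.Away a₀ →+* E,
      ∀ a, Γ0 (algebraMap A (Localization.Away a₀) a) = algebraMap C0 E (jA a) := by
    have hu : IsUnit (RingHom.comp (algebraMap C0 E) jA a₀) := hEu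
    exact ⟨IsLocalization.Away.lift (S := Localization.Away a₀) a₀ hu, fun a => IsLocalization.Away.lift_eq a₀ hu a⟩
  let Γ : A' →+* E := Γ0.comp A'.val.toRingHom
  have hΓA : ∀ a, Γ (algebraMap A A' a) = algebraMap C0 E (jA a) := fun a => hΓ0 a
  have hΓ : ∀ a' : A', ∃ w : C0, Θ0 w = algebraMap A' Loc a' ∧ Γ a' = algebraMap C0 E w := by
    rintro ⟨z, hz⟩
    induction hz using Algebra.adjoin_induction with
    | mem z hz =>
      obtain ⟨x, hx, rfl⟩ := hz
      obtain ⟨w, hw⟩ := hlift x hx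
      refine ⟨w, ?_, hEu.mul_right_cancel ?_⟩
      · show Θ0 w = algebraMap A' Loc (frac x hx)
        refine sub_eq_zero.1 (hreg _ ?_)
        have e1 : Θ0 w * algebraMap A Loc a₀ = algebraMap A Loc x :=
          (congrArg (Θ0 w * ·) (hΘA a₀)).symm.trans
            (((map_mul Θ0 w (jA a₀)).symm.trans (congrArg Θ0 hw)).trans (hΘA x))
        have e2 : algebraMap A' Loc (frac x hx) * algebraMap A Loc a₀ = algebraMap A Loc x := by
          rw [hAL, hAL, ← map_mul, hfrac x hx]
        rw [sub_mul, e1, e2, sub_self]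
      · rw [← map_mul, hw]
        show Γ (frac x hx) * _ = _
        rw [← hΓA, ← hΓA, ← map_mul, hfrac x hx]
    | algebraMap a =>
      exact ⟨jA a, (hΘA a).trans (hAL a), hΓA a⟩
    | add x y hx hy ihx ihy =>
      obtain ⟨u, hu, hu'⟩ := ihx; obtain ⟨v, hv, hv'⟩ := ihy
      refine ⟨u + v, ?_, ?_⟩
      · rw [map_add, hu, hv, ← map_add]; rfl
      · rw [map_add, ← hu', ← hv', ← map_add]; rfl
    | mul x y hx hy ihx ihy =>
      obtain ⟨u, hu, hu'⟩ := ihx; obtain ⟨v, hv, hv'⟩ := ihy
      refine ⟨u * v, ?_, ?_⟩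
      · rw [map_mul, hu, hv, ← map_mul]; rfl
      · rw [map_mul, ← hu', ← hv', ← map_mul]; rfl
  refine ⟨?_, fun z => ?_⟩
  · have hΓu : ∀ t : P'.primeCompl, IsUnit (Γ t) := fun t => by
      obtain ⟨w, hw, hw'⟩ := hΓ t
      rw [hw']
      exact (hloc w (hw ▸ IsLocalization.map_units Loc t)).map _
    let Γ1 : Loc →+* E := IsLocalization.lift hΓu
    have hG : ∀ a' : A', Γ1 (algebraMap A' Loc a') = Γ a' := fun a' => IsLocalization.lift_eq hΓu a'
    have hL : (Γ1.comp Θ0).comp jL = (algebraMap C0 E).comp jL := by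
      refine IsLocalization.ringHom_ext p.primeCompl (RingHom.ext fun a => ?_)
      show Γ1 (Θ0 (jL (algebraMap A L a))) = algebraMap C0 E (jA a)
      rw [hΘA, hAL, hG, hΓA]
    have hev : (Γ1.comp Θ0).comp (MvPolynomial.eval₂Hom jL X) =
        (algebraMap C0 E).comp (MvPolynomial.eval₂Hom jL X) := by
      refine MvPolynomial.ringHom_ext (fun l => ?_) fun k => ?_
      · simp only [RingHom.comp_apply, MvPolynomial.eval₂Hom_C]
        exact RingHom.congr_fun hL l
      · simp only [RingHom.comp_apply, MvPolynomial.eval₂Hom_X']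
        refine hEu.mul_right_cancel ?_
        have h1 := RingHom.congr_fun hL (algebraMap A L a₀)
        simp only [RingHom.comp_apply] at h1
        conv_lhs => rw [show algebraMap C0 E (jA a₀) = algebraMap C0 E (jL (algebraMap A L a₀)) from rfl, ← h1]
        rw [← map_mul, ← map_mul, ← map_mul (algebraMap C0 E)]
        show Γ1 (Θ0 (X k * jL (algebraMap A L a₀))) = algebraMap C0 E (X k * jL (algebraMap A L a₀))
        rw [hX]
        exact RingHom.congr_fun hL (algebraMap A L (as k))
    have hall : ∀ z, Γ1 (Θ0 z) = algebraMap C0 E z := fun z => by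
      obtain ⟨w, t, ht, hz⟩ := hgen z
      refine (ht.map (algebraMap C0 E)).mul_right_cancel ?_
      have h1 := RingHom.congr_fun hev t
      have h2 := RingHom.congr_fun hev w
      simp only [RingHom.comp_apply] at h1 h2
      conv_lhs => rw [← h1]
      rw [← map_mul, ← map_mul, hz, h2, ← map_mul, hz]
    refine (injective_iff_map_eq_zero Θ0).2 fun z hz => ?_
    have h1 : algebraMap C0 E z = 0 := by rw [← hall, hz, map_zero]
    obtain ⟨⟨_, n, rfl⟩, hn⟩ := (IsLocalization.map_eq_zero_iff (Submonoid.powers (jA a₀)) E _).1 h1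
    have hr : IsSMulRegular C0 (π ^ n) := Module.Flat.isSMulRegular_of_isRegular (hπ.pow n)
    refine hr ?_
    simp only [Algebra.smul_def, map_pow, ← hcomm, ha₀, mul_zero]
    exact hn
  · obtain ⟨a', t, rfl⟩ := IsLocalization.exists_mk'_eq P'.primeCompl z
    obtain ⟨w, hw, -⟩ := hΓ a'
    obtain ⟨v, hv, -⟩ := hΓ t
    obtain ⟨u, hu⟩ := hloc v (hv ▸ IsLocalization.map_units Loc t)
    refine ⟨w * (u⁻¹ : C0ˣ).val, (IsLocalization.eq_mk'_iff_mul_eq).2 ?_⟩
    rw [← hv, ← hw, ← map_mul, ← hu, mul_assoc, Units.inv_mul, mul_one]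

end NeronSmoothLib
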