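import Groth.Agent.BlowSmoothLib.Algebra
import Mathlib.RingTheory.Etale.Kaehler
import Mathlib.RingTheory.Smooth.Flat
import Mathlib.RingTheory.Flat.Localization

/-!
A local model cut out by equations with dual derivations.
-/

set_option autoImplicit false
set_option maxHeartbeats 2000000
set_option synthInstance.maxHeartbeats 200000
set_option linter.style.haveILetI false

noncomputable section

universe u

open TensorProduct IsLocalRing

namespace NeronSmoothLib

/-- A quotient of a local ring of a formally smooth algebra by equations with dual derivations. -/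
theorem smooth_quotient (R : Type u) [CommRing R] (W : Type u) [CommRing W] [Algebra R W] [Algebra.FormallySmooth R W]
    (Q : Ideal W) [Q.IsPrime] {c : ℕ} (f : Fin c → W) (hf : ∀ k, f k ∈ Q) (D : Fin c → Derivation R W W)
    (hD : ∀ i k, D i (f k) - (if i = k then 1 else 0) ∈ Q) :
    Algebra.FormallySmooth R
      (Localization.AtPrime Q ⧸ Ideal.span (Set.range fun k => algebraMap W (Localization.AtPrime Q) (f k))) := by
  classical
  let P := Localization.AtPrime Q
  let C := P ⧸ Ideal.span (Set.range fun k => algebraMap W P (f k))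
  haveI : Algebra.FormallyEtale W P := Algebra.FormallyEtale.of_isLocalization Q.primeCompl
  haveI : Algebra.FormallySmooth R P := Algebra.FormallySmooth.comp R W P
  have hI : Ideal.span (Set.range fun k => algebraMap W P (f k)) ≤ maximalIdeal P := Ideal.span_le.2 (by
    rintro z ⟨k, rfl⟩
    exact (IsLocalization.AtPrime.to_map_mem_maximal_iff P Q (f k)).2 (hf k))
  haveI : Nontrivial C := Ideal.Quotient.nontrivial_iff.2
    fun h => (maximalIdeal.isMaximal P).ne_top (eq_top_iff.2 (h ▸ hI))
  haveI : IsLocalRing C := IsLocalRing.of_surjective' (Ideal.Quotient.mk _) Ideal.Quotient.mk_surjective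
  let ψ : Fin c → (Ω[W⁄R] →ₗ[W] C) := fun i =>
    (Algebra.linearMap W C) ∘ₗ (D i).liftKaehlerDifferential
  let E : Fin c → Derivation R P C := fun i =>
    (((ψ i).liftBaseChange P) ∘ₗ
      (KaehlerDifferential.tensorKaehlerEquivOfFormallyEtale R W P).symm.toLinearMap).compDer (KaehlerDifferential.D R P)
  have hE : ∀ i w, E i (algebraMap W P w) = algebraMap W C (D i w) := fun i w => by
    show (ψ i).liftBaseChange P ((KaehlerDifferential.tensorKaehlerEquivOfFormallyEtale R W P).symm
      (KaehlerDifferential.D R P (algebraMap W P w))) = _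
    rw [KaehlerDifferential.tensorKaehlerEquivOfFormallyEtale_symm_D_algebraMap, LinearMap.liftBaseChange_tmul,
      one_smul]
    show algebraMap W C ((D i).liftKaehlerDifferential (KaehlerDifferential.D R W w)) = _
    rw [Derivation.liftKaehlerDifferential_comp_D]
  let M : Matrix (Fin c) (Fin c) C := Matrix.of fun i k => E i (algebraMap W P (f k))
  have hM : IsUnit M.det := by
    rw [← IsLocalRing.notMem_maximalIdeal]
    intro hmem
    have h1 : (residue C).mapMatrix M = 1 := by
      ext i k
      show residue C (E i (algebraMap W P (f k))) = _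
      rw [hE, Matrix.one_apply]
      have h2 : algebraMap W C (D i (f k) - (if i = k then 1 else 0)) ∈ maximalIdeal C := by
        rw [IsScalarTower.algebraMap_apply W P C, ← IsLocalRing.map_maximalIdeal_of_surjective
          (algebraMap P C) Ideal.Quotient.mk_surjective]
        exact Ideal.mem_map_of_mem _ ((IsLocalization.AtPrime.to_map_mem_maximal_iff P Q _).2 (hD i k))
      rw [← residue_eq_zero_iff, map_sub, map_sub, sub_eq_zero] at h2
      rw [h2]
      split_ifs <;> simp
    have h3 := RingHom.map_det (residue C) M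
    rw [h1, Matrix.det_one, (residue_eq_zero_iff _).2 hmem] at h3
    exact zero_ne_one h3
  refine BlowSmoothLib.formallySmooth_of_derivations (P := P) (C := C) Ideal.Quotient.mk_surjective
    (fun k => algebraMap W P (f k)) Ideal.mk_ker (fun i => ∑ j, M⁻¹ i j • E j) fun i k => ?_
  have h := congrArg (fun N => N i k) (Matrix.nonsing_inv_mul M hM)
  simp only [Matrix.mul_apply, Matrix.one_apply] at h
  rw [← h]
  refine (congrFun (map_sum (Derivation.coeFnAddMonoidHom (R := R) (A := P) (M := C)) _ _) _).trans ?_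
  rw [Finset.sum_apply]
  exact Finset.sum_congr rfl fun j _ => rfl

/-- A smooth local model over `W` of a local ring below a map `Θ`. -/
theorem exists_model (R : Type u) [CommRing R] (W : Type u) [CommRing W] [IsNoetherianRing W] [Algebra R W]
    [Algebra.FormallySmooth R W] [Module.Flat R W] {Loc : Type u} [CommRing Loc] [IsLocalRing Loc] (Θ : W →+* Loc)
    {c : ℕ} (f : Fin c → W) (hf : ∀ k, Θ (f k) = 0) (D : Fin c → Derivation R W W)
    (hD : ∀ i k, Θ (D i (f k) - (if i = k then 1 else 0)) ∈ maximalIdeal Loc) :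
    ∃ (C0 : Type u) (_ : CommRing C0) (_ : Algebra R C0) (ι : W →ₐ[R] C0) (Θ0 : C0 →+* Loc),
      Algebra.FormallySmooth R C0 ∧ Module.Flat R C0 ∧ (∀ w, Θ0 (ι w) = Θ w) ∧ (∀ k, ι (f k) = 0) ∧
      (∀ z, IsUnit (Θ0 z) → IsUnit z) ∧ ∀ z, ∃ w t, IsUnit (ι t) ∧ z * ι t = ι w := by
  classical
  let Q : Ideal W := (maximalIdeal Loc).comap Θ
  let P := Localization.AtPrime Q
  have hfQ : ∀ k, f k ∈ Q := fun k => by
    show Θ (f k) ∈ maximalIdeal Loc
    rw [hf]; exact zero_mem _
  have hΘu : ∀ w : Q.primeCompl, IsUnit (Θ w) := fun w => IsLocalRing.notMem_maximalIdeal.1 w.2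
  let Θ1 : P →+* Loc := IsLocalization.lift hΘu
  have hΘ1 : ∀ w, Θ1 (algebraMap W P w) = Θ w := fun w => IsLocalization.lift_eq hΘu w
  let I : Ideal P := Ideal.span (Set.range fun k => algebraMap W P (f k))
  have hI : I ≤ RingHom.ker Θ1 := Ideal.span_le.2 (by
    rintro w ⟨k, rfl⟩
    show Θ1 (algebraMap W P (f k)) = 0
    rw [hΘ1, hf])
  have hC0 := smooth_quotient R W Q f hfQ D fun i k => hD i k
  haveI : Module.Flat W P := IsLocalization.flat P Q.primeCompl
  haveI : Module.Flat R P := Module.Flat.trans R W P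
  haveI : IsNoetherianRing P := IsLocalization.isNoetherianRing Q.primeCompl P inferInstance
  haveI : Algebra.FormallyEtale W P := Algebra.FormallyEtale.of_isLocalization Q.primeCompl
  haveI : Algebra.FormallySmooth R P := Algebra.FormallySmooth.comp R W P
  haveI : Algebra.FormallySmooth R (P ⧸ I) := hC0
  have hIm : I ≤ maximalIdeal P := hI.trans (IsLocalRing.le_maximalIdeal (RingHom.ker_ne_top Θ1))
  haveI : Nontrivial (P ⧸ I) := Ideal.Quotient.nontrivial_iff.2
    fun h => (maximalIdeal.isMaximal P).ne_top (eq_top_iff.2 (h ▸ hIm))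
  haveI : IsLocalRing (P ⧸ I) := IsLocalRing.of_surjective' (Ideal.Quotient.mk I) Ideal.Quotient.mk_surjective
  refine ⟨P ⧸ I, inferInstance, inferInstance, (Ideal.Quotient.mkₐ R I).comp (IsScalarTower.toAlgHom R W P),
    Ideal.Quotient.lift I Θ1 hI, inferInstance,
    Algebra.FormallySmooth.flat_of_algHom_of_isNoetherianRing (Ideal.Quotient.mkₐ R I) Ideal.Quotient.mk_surjective,
    fun w => hΘ1 w, fun k => Ideal.Quotient.eq_zero_iff_mem.2 (Ideal.subset_span ⟨k, rfl⟩), ?_, ?_⟩
  · intro z hz
    obtain ⟨v, rfl⟩ := Ideal.Quotient.mk_surjective z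
    refine IsUnit.map (Ideal.Quotient.mk I) ?_
    obtain ⟨u, t, rfl⟩ := IsLocalization.exists_mk'_eq Q.primeCompl v
    refine IsLocalRing.notMem_maximalIdeal.1 fun hmem => ?_
    have hu : u ∈ Q := (IsLocalization.AtPrime.mk'_mem_maximal_iff P Q u t).1 hmem
    have hz' : IsUnit (Θ1 (IsLocalization.mk' P u t)) := hz
    have h1 : IsUnit (Θ1 (IsLocalization.mk' P u t) * Θ t) := hz'.mul (hΘu t)
    rw [← hΘ1, ← map_mul, IsLocalization.mk'_spec, hΘ1] at h1
    exact hu h1
  · intro z
    obtain ⟨v, rfl⟩ := Ideal.Quotient.mk_surjective z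
    obtain ⟨u, t, rfl⟩ := IsLocalization.exists_mk'_eq Q.primeCompl v
    refine ⟨u, (t : W), (IsLocalization.map_units P t).map (Ideal.Quotient.mk I), ?_⟩
    show Ideal.Quotient.mk I _ * Ideal.Quotient.mk I (algebraMap W P t) = _
    rw [← map_mul, IsLocalization.mk'_spec]
    rfl

end NeronSmoothLib
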