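import Groth.Agent.NeronSmoothLib.Deriv
import Groth.Agent.NeronSmoothLib.Model
import Groth.Agent.NeronSmoothLib.Iso
import Mathlib.RingTheory.Smooth.Locus
import Mathlib.RingTheory.DiscreteValuationRing.Basic

/-!
Neron's blowup of a smooth point is smooth.
-/

set_option autoImplicit false
set_option maxHeartbeats 2000000
set_option synthInstance.maxHeartbeats 200000
set_option linter.style.haveILetI false

noncomputable section

universe u

open TensorProduct IsLocalRing

namespace NeronSmoothLib

variable {R A : Type u} [CommRing R] [IsDomain R] [IsDiscreteValuationRing R] [CommRing A] [Algebra R A]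
  [Module.Flat R A] [Algebra.FiniteType R A]

/-- The main theorem, for an arbitrary model of the local ring. -/
theorem main_aux (π : R) (hπ : maximalIdeal R = Ideal.span {π}) (p : Ideal A) [p.IsPrime]
    (hπp : algebraMap R A π ∈ p) (L : Type u) [CommRing L] [IsLocalRing L] [Algebra A L] [Algebra R L]
    [IsScalarTower R A L] [IsLocalization.AtPrime L p] [hsm : Algebra.FormallySmooth R L]
    (K : Type u) [Field K] [Algebra (ResidueField R) K] [Algebra.IsGeometricallyReduced (ResidueField R) K]
    (ρ : A →+* K) (hρ : RingHom.ker ρ = p) (hρR : ∀ r, ρ (algebraMap R A r) = algebraMap (ResidueField R) K (residue R r))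
    (P' : Ideal (BlowUp.affineAlgebra A p (algebraMap R A π))) [P'.IsPrime]
    (hP' : P'.comap (algebraMap A (BlowUp.affineAlgebra A p (algebraMap R A π))) = p)
    (Loc : Type u) [CommRing Loc] [IsLocalRing Loc] [Algebra (BlowUp.affineAlgebra A p (algebraMap R A π)) Loc]
    [IsLocalization.AtPrime Loc P'] [Algebra A Loc] [Algebra R Loc] [IsScalarTower R A Loc]
    [IsScalarTower A (BlowUp.affineAlgebra A p (algebraMap R A π)) Loc] :
    Algebra.FormallySmooth R Loc := by
  classical
  let a₀ := algebraMap R A π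
  let A' := BlowUp.affineAlgebra A p a₀
  haveI : IsNoetherianRing A := Algebra.FiniteType.isNoetherianRing R A
  haveI : IsNoetherianRing L := IsLocalization.isNoetherianRing p.primeCompl L inferInstance
  have hπL : algebraMap R L π ∈ maximalIdeal L := by
    rw [IsScalarTower.algebraMap_apply R A L]
    exact (IsLocalization.AtPrime.to_map_mem_maximal_iff L p _).2 hπp
  let ρL : L →+* K := IsLocalization.lift (M := p.primeCompl) (g := ρ) fun y => isUnit_iff_ne_zero.2 fun h =>
    y.2 (hρ.le h)
  have hρL : RingHom.ker ρL = maximalIdeal L := by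
    refine le_antisymm (IsLocalRing.le_maximalIdeal (RingHom.ker_ne_top ρL)) fun x hx => ?_
    obtain ⟨a, s, rfl⟩ := IsLocalization.exists_mk'_eq p.primeCompl x
    have ha := (IsLocalization.AtPrime.mk'_mem_maximal_iff L p a s).1 hx
    have h0 : ρ a = 0 := hρ.ge ha
    show ρL (IsLocalization.mk' L a s) = 0
    rw [IsLocalization.lift_mk', h0, zero_mul]
  obtain ⟨c, g, δ, hspan, hδ⟩ := exists_dual R L K π hπ hπL ρL hρL fun r => by
    rw [IsScalarTower.algebraMap_apply R A L, IsLocalization.lift_eq, hρR]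
  choose as has using fun i => IsLocalization.exists_mk'_eq p.primeCompl (g i)
  choose s hs using has
  have hgm : ∀ i, g i ∈ maximalIdeal L := fun i => hspan.ge (Ideal.subset_span (Set.mem_insert_of_mem _ ⟨i, rfl⟩))
  let σ : Fin c → L := fun i => algebraMap A L (s i : A)
  have hσ : ∀ i, IsUnit (σ i) := fun i => IsLocalization.map_units L (s i)
  have hga : ∀ i, algebraMap A L (as i) = g i * σ i := fun i => by
    rw [← hs i]; exact (IsLocalization.mk'_spec L (as i) (s i)).symm
  have hap : ∀ i, as i ∈ p := fun i => (IsLocalization.AtPrime.to_map_mem_maximal_iff L p _).1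
    (hga i ▸ Ideal.mul_mem_right _ _ (hgm i))
  let δ' : Fin c → Derivation R L L := fun i => ((hσ i).unit⁻¹ : Lˣ).val • δ i
  have hδ' : ∀ i k, δ' i (algebraMap A L (as k)) - (if i = k then 1 else 0) ∈ maximalIdeal L := fun i k => by
    show ((hσ i).unit⁻¹ : Lˣ).val * δ i (algebraMap A L (as k)) - _ ∈ _
    rw [hga, Derivation.leibniz, smul_eq_mul, smul_eq_mul]
    have e : ((hσ i).unit⁻¹ : Lˣ).val * σ i = 1 := (hσ i).val_inv_mul
    have h1 : ((hσ i).unit⁻¹ : Lˣ).val * (g k * δ i (σ k)) ∈ maximalIdeal L :=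
      Ideal.mul_mem_left _ _ (Ideal.mul_mem_right _ _ (hgm k))
    by_cases hik : i = k
    · subst hik
      have h2 := Ideal.mul_mem_left _ (((hσ i).unit⁻¹ : Lˣ).val * σ i) (hδ i i)
      rw [if_pos rfl] at h2 ⊢
      have e2 : ((hσ i).unit⁻¹ : Lˣ).val * (g i * δ i (σ i) + σ i * δ i (g i)) - 1 =
          ((hσ i).unit⁻¹ : Lˣ).val * (g i * δ i (σ i)) + ((hσ i).unit⁻¹ : Lˣ).val * σ i * (δ i (g i) - 1) := by
        linear_combination e
      rw [e2]; exact add_mem h1 h2
    · have h2 := hδ i k
      rw [if_neg hik, sub_zero] at h2 ⊢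
      rw [mul_add]
      exact add_mem h1 (Ideal.mul_mem_left _ _ (Ideal.mul_mem_left _ _ h2))
  -- the local ring of the blowup
  have hunit : ∀ y : p.primeCompl, IsUnit (algebraMap A Loc y) := fun y => by
    rw [IsScalarTower.algebraMap_apply A A' Loc]
    exact IsLocalization.map_units Loc (⟨algebraMap A A' y, fun h => y.2 (hP'.le h)⟩ : P'.primeCompl)
  let fL : L →+* Loc := IsLocalization.lift hunit
  have hfL : ∀ a, fL (algebraMap A L a) = algebraMap A Loc a := fun a => IsLocalization.lift_eq hunit a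
  have haA' : IsUnit (algebraMap A (Localization.Away a₀) a₀) := IsLocalization.Away.algebraMap_isUnit a₀
  let frac : ∀ x ∈ p, A' := fun x hx => ⟨IsLocalization.mk' (Localization.Away a₀) x ⟨a₀, Submonoid.mem_powers a₀⟩,
    Algebra.subset_adjoin ⟨x, hx, rfl⟩⟩
  have hfrac : ∀ x hx, frac x hx * algebraMap A A' a₀ = algebraMap A A' x := fun x hx =>
    Subtype.ext (IsLocalization.mk'_spec (Localization.Away a₀) x ⟨a₀, Submonoid.mem_powers a₀⟩)
  let y : Fin c → Loc := fun k => algebraMap A' Loc (frac (as k) (hap k))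
  have hy : ∀ k, y k * algebraMap A Loc a₀ = algebraMap A Loc (as k) := fun k => by
    rw [IsScalarTower.algebraMap_apply A A' Loc, IsScalarTower.algebraMap_apply A A' Loc, ← map_mul,
      hfrac (as k) (hap k)]
  let Θ : MvPolynomial (Fin c) L →+* Loc := MvPolynomial.eval₂Hom fL y
  have hΘC : ∀ l, Θ (MvPolynomial.C l) = fL l := fun l => MvPolynomial.eval₂Hom_C _ _ _
  have hΘX : ∀ k, Θ (MvPolynomial.X k) = y k := fun k => MvPolynomial.eval₂Hom_X' _ _ _
  let f : Fin c → MvPolynomial (Fin c) L := fun k =>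
    MvPolynomial.C (algebraMap A L (as k)) - MvPolynomial.C (algebraMap A L a₀) * MvPolynomial.X k
  have hΘf : ∀ k, Θ (f k) = 0 := fun k => by
    show Θ (_ - _) = 0
    rw [map_sub, map_mul, hΘC, hΘC, hΘX, hfL, hfL, mul_comm, hy, sub_self]
  have hmQ : ∀ z ∈ maximalIdeal L, fL z ∈ maximalIdeal Loc := fun z hz => by
    obtain ⟨a, t, rfl⟩ := IsLocalization.exists_mk'_eq p.primeCompl z
    have ha := (IsLocalization.AtPrime.mk'_mem_maximal_iff L p a t).1 hz
    have e : fL (IsLocalization.mk' L a t) * algebraMap A Loc t = algebraMap A Loc a := by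
      rw [← hfL, ← map_mul, IsLocalization.mk'_spec, hfL]
    refine (Ideal.IsPrime.mem_or_mem inferInstance (?_ : fL (IsLocalization.mk' L a t) * algebraMap A Loc t ∈ _)).resolve_right
      fun h => h (hunit t)
    rw [e, IsScalarTower.algebraMap_apply A A' Loc]
    refine (IsLocalization.AtPrime.to_map_mem_maximal_iff Loc P' _).2 ?_
    exact hP'.ge ha
  haveI : Algebra.FormallySmooth R (MvPolynomial (Fin c) L) := Algebra.FormallySmooth.comp R L _
  haveI : Module.Flat A L := IsLocalization.flat L p.primeCompl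
  haveI : Module.Flat R L := Module.Flat.trans R A L
  haveI : Module.Flat R (MvPolynomial (Fin c) L) := Module.Flat.trans R L _
  have hder : ∀ i, ∃ D : Derivation R (MvPolynomial (Fin c) L) (MvPolynomial (Fin c) L),
      ∀ k, Θ (D (f k) - (if i = k then 1 else 0)) ∈ maximalIdeal Loc := fun i => by
    obtain ⟨D, hDC, hDX⟩ := BlowSmoothLib.exists_derivation_mvPolynomial (R := R) (A := L) (σ := Fin c) (C := MvPolynomial (Fin c) L) (δ' i) (fun _ => 0)
    refine ⟨D, fun k => ?_⟩
    have e : D (f k) = MvPolynomial.C (δ' i (algebraMap A L (as k))) -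
        MvPolynomial.X k * MvPolynomial.C (δ' i (algebraMap A L a₀)) := by
      show D (_ - _) = _
      rw [map_sub, Derivation.leibniz, hDC, hDC, hDX, smul_zero, zero_add]
      rfl
    have h0 : δ' i (algebraMap A L a₀) = 0 := by
      rw [← IsScalarTower.algebraMap_apply R A L]; exact Derivation.map_algebraMap _ _
    rw [e, h0, map_zero, mul_zero, sub_zero]
    have e2 : (if i = k then (1 : MvPolynomial (Fin c) L) else 0) = MvPolynomial.C (if i = k then (1 : L) else 0) := by
      split_ifs <;> simp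
    rw [e2, ← MvPolynomial.C_sub, hΘC]
    exact hmQ _ (hδ' i k)
  choose D hD using hder
  obtain ⟨C0, _, _, ι, Θ0, hsm0, hflat, hΘ0, hιf, hloc, hgen⟩ :=
    exists_model R (MvPolynomial (Fin c) L) Θ f hΘf D hD
  let jL : L →+* C0 := (ι : MvPolynomial (Fin c) L →+* C0).comp MvPolynomial.C
  have hev : MvPolynomial.eval₂Hom jL (fun k => ι (MvPolynomial.X k)) = (ι : MvPolynomial (Fin c) L →+* C0) :=
    MvPolynomial.ringHom_ext (fun l => MvPolynomial.eval₂Hom_C _ _ _) fun k => MvPolynomial.eval₂Hom_X' _ _ _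
  have hcomm : ∀ r, jL (algebraMap A L (algebraMap R A r)) = algebraMap R C0 r := fun r => by
    rw [← IsScalarTower.algebraMap_apply R A L, ← ι.commutes r, IsScalarTower.algebraMap_apply R L (MvPolynomial (Fin c) L)]
    rfl
  have hΘA : ∀ a, Θ0 (jL (algebraMap A L a)) = algebraMap A Loc a := fun a =>
    ((hΘ0 _).trans (hΘC _)).trans (hfL a)
  have hπ0 : π ≠ 0 := fun h => IsDiscreteValuationRing.not_a_field R (by rw [hπ, h, Ideal.span_singleton_eq_bot])
  have hsp : ∀ x ∈ p, algebraMap A L x ∈
      Ideal.span (insert (algebraMap A L a₀) (Set.range fun k => algebraMap A L (as k))) := fun x hx => by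
    have h1 : algebraMap A L x ∈ Ideal.span (insert (algebraMap R L π) (Set.range g)) :=
      hspan.le ((IsLocalization.AtPrime.to_map_mem_maximal_iff L p _).2 hx)
    refine Ideal.span_le.2 ?_ h1
    rintro z (rfl | ⟨k, rfl⟩)
    · exact Ideal.subset_span (Or.inl (IsScalarTower.algebraMap_apply R A L π))
    · have : g k = ((hσ k).unit⁻¹ : Lˣ).val * algebraMap A L (as k) := by
        rw [hga, mul_comm (g k), ← mul_assoc, (hσ k).val_inv_mul, one_mul]
      rw [this]
      exact Ideal.mul_mem_left _ _ (Ideal.subset_span (Or.inr ⟨k, rfl⟩))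
  haveI : Module.Flat R C0 := hflat
  have hbij : Function.Bijective Θ0 := bijective_of_model (L := L) p π (IsRegular.of_ne_zero hπ0) P' Loc as hap hsp jL
    (fun k => ι (MvPolynomial.X k)) Θ0 hcomm hΘA (fun k => by
      have h := hιf k
      rw [map_sub, map_mul, sub_eq_zero] at h
      exact (mul_comm _ _).trans h.symm) hloc (fun z => by rw [hev]; exact hgen z)
  let Θ0' : C0 →ₐ[R] Loc := { Θ0 with
    commutes' := fun r => by
      show Θ0 (algebraMap R C0 r) = _
      rw [← hcomm, hΘA, ← IsScalarTower.algebraMap_apply R A Loc] }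
  haveI := hsm0
  exact Algebra.FormallySmooth.of_equiv (AlgEquiv.ofBijective Θ0' hbij)

/-- The main theorem. -/
theorem main (π : R) (hπ : maximalIdeal R = Ideal.span {π}) (p : Ideal A) [p.IsPrime]
    (hπp : algebraMap R A π ∈ p) [hsm : Algebra.IsSmoothAt R p]
    (K : Type u) [Field K] [Algebra (ResidueField R) K] [Algebra.IsGeometricallyReduced (ResidueField R) K]
    (ρ : A →+* K) (hρ : RingHom.ker ρ = p) (hρR : ∀ r, ρ (algebraMap R A r) = algebraMap (ResidueField R) K (residue R r))
    (P' : Ideal (BlowUp.affineAlgebra A p (algebraMap R A π))) [P'.IsPrime]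
    (hP' : P'.comap (algebraMap A (BlowUp.affineAlgebra A p (algebraMap R A π))) = p) :
    Algebra.IsSmoothAt R P' :=
  main_aux π hπ p hπp (Localization.AtPrime p) (hsm := hsm) K ρ hρ hρR P' hP' (Localization.AtPrime P')

end NeronSmoothLib
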